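import Groth.Prelude.Def_HopfRep
import Groth.Agent.CauchyBinetLib.Basic
import Groth.Agent.Comodule.Sub
import Mathlib

/-! Multiplicative matrices (matrix coefficients of comodules). -/

set_option autoImplicit false
set_option linter.style.haveILetI false

open TensorProduct

namespace Groth.Agent.CharFin

variable {k : Type*} [Field k] {A : Type*} [CommRing A] [Bialgebra k A]

/-- A matrix whose comultiplication is matrix multiplication. -/
structure IsComatrix {n : Type*} [Fintype n] [DecidableEq n] (u : Matrix n n A) : Prop where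
  comul : ∀ i j, Coalgebra.comul (R := k) (u i j) = ∑ l, u i l ⊗ₜ[k] u l j
  counit : ∀ i j, Coalgebra.counit (R := k) (u i j) = if i = j then 1 else 0

variable {n : Type*} [Fintype n] [DecidableEq n]

theorem IsComatrix.map_comul {u : Matrix n n A} (h : IsComatrix (k := k) u) :
    u.map (Bialgebra.comulAlgHom k A) =
      u.map (Algebra.TensorProduct.includeLeft : A →ₐ[k] A ⊗[k] A) *
        u.map (Algebra.TensorProduct.includeRight : A →ₐ[k] A ⊗[k] A) := by
  ext i j
  simp [Matrix.mul_apply, h.comul]

theorem IsComatrix.map_counit {u : Matrix n n A} (h : IsComatrix (k := k) u) :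
    u.map (Bialgebra.counitAlgHom k A) = 1 := by
  ext i j
  simp [h.counit, Matrix.one_apply]

theorem IsComatrix.reindex {m : Type*} [Fintype m] [DecidableEq m] {u : Matrix n n A}
    (h : IsComatrix (k := k) u) (e : m ≃ n) : IsComatrix (k := k) (u.submatrix e e) := by
  constructor
  · intro i j
    rw [Matrix.submatrix_apply, h.comul, ← e.sum_comp]
    rfl
  · intro i j
    rw [Matrix.submatrix_apply, h.counit]
    simp [e.injective.eq_iff]

theorem IsComatrix.map {B : Type*} [CommRing B] [Bialgebra k B] (π : A →ₐc[k] B) {u : Matrix n n A}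
    (h : IsComatrix (k := k) u) : IsComatrix (k := k) (u.map π) := by
  constructor
  · intro i j
    rw [Matrix.map_apply, ← CoalgHomClass.map_comp_comul_apply π, h.comul, map_sum]
    rfl
  · intro i j
    rw [Matrix.map_apply, CoalgHomClass.counit_comp_apply π, h.counit]

section Minors

variable {N : ℕ}

/-- The matrix of `e × e` minors. -/
def minors (u : Matrix (Fin N) (Fin N) A) (e : ℕ) :
    Matrix {s : Finset (Fin N) // s.card = e} {s : Finset (Fin N) // s.card = e} A :=
  Matrix.of fun s t => (u.submatrix (s.1.orderEmbOfFin s.2) (t.1.orderEmbOfFin t.2)).det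

theorem isComatrix_minors {u : Matrix (Fin N) (Fin N) A} (h : IsComatrix (k := k) u) (e : ℕ) :
    IsComatrix (k := k) (minors u e) := by
  constructor
  · intro s t
    show Bialgebra.comulAlgHom k A (minors u e s t) = _
    rw [minors, Matrix.of_apply, AlgHom.map_det, AlgHom.mapMatrix_apply, ← Matrix.submatrix_map,
      h.map_comul, Matrix.submatrix_mul _ _ _ id _ Function.bijective_id,
      CauchyBinetLib.det_mul_eq_sum]
    refine Finset.sum_congr rfl fun l _ => ?_
    rw [Matrix.submatrix_submatrix, Matrix.submatrix_submatrix, Function.comp_id, Function.id_comp,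
      Matrix.submatrix_map, Matrix.submatrix_map, ← AlgHom.mapMatrix_apply, ← AlgHom.mapMatrix_apply,
      ← AlgHom.map_det, ← AlgHom.map_det]
    simp
  · intro s t
    show Bialgebra.counitAlgHom k A (minors u e s t) = _
    rw [minors, Matrix.of_apply, AlgHom.map_det, AlgHom.mapMatrix_apply, ← Matrix.submatrix_map,
      h.map_counit]
    by_cases hst : s = t
    · subst hst
      rw [if_pos rfl, Matrix.submatrix_one _ (RelEmbedding.injective _), Matrix.det_one]
    · rw [if_neg hst]
      have hns : ¬ s.1 ⊆ t.1 := fun hle => hst (Subtype.ext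
        (Finset.eq_of_subset_of_card_le hle (by rw [s.2, t.2])))
      obtain ⟨x, hxs, hxt⟩ := Finset.not_subset.mp hns
      obtain ⟨a, ha⟩ : ∃ a, s.1.orderEmbOfFin s.2 a = x := by
        have : x ∈ Set.range (s.1.orderEmbOfFin s.2) := by rw [Finset.range_orderEmbOfFin]; exact hxs
        exact this
      refine Matrix.det_eq_zero_of_row_eq_zero a fun b => ?_
      rw [Matrix.submatrix_apply, ha, Matrix.one_apply_ne]
      exact fun hb => hxt (hb ▸ Finset.orderEmbOfFin_mem _ _ b)

theorem charpoly_coeff_eq (u : Matrix (Fin N) (Fin N) A) {i : ℕ} (hi : i ≤ N) :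
    u.charpoly.coeff i = (-1) ^ (N - i) * ∑ s, minors u (N - i) s s := by
  have h := u.charpoly_coeff_eq_sum_minors (N - i) (by simp)
  rw [Fintype.card_fin, Nat.sub_sub_self hi] at h
  rw [h]
  congr 1
  rw [Finset.sum_subtype (Finset.univ.powersetCard (N - i)) (p := fun s => s.card = N - i)
    (by simp [Finset.mem_powersetCard])]
  refine Finset.sum_congr rfl fun s _ => ?_
  rw [minors, Matrix.of_apply, ← Matrix.det_submatrix_equiv_self (s.1.orderIsoOfFin s.2).toEquiv,
    Matrix.submatrix_submatrix]
  rfl

end Minors

section Comod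

variable {d : ℕ}

/-- The coaction given by a matrix. -/
noncomputable def coactOf (u : Matrix (Fin d) (Fin d) A) : (Fin d → k) →ₗ[k] (Fin d → k) ⊗[k] A :=
  (Pi.basisFun k (Fin d)).constr k fun i => ∑ j, (Pi.single j 1 : Fin d → k) ⊗ₜ[k] u j i

theorem coactOf_single (u : Matrix (Fin d) (Fin d) A) (i : Fin d) :
    coactOf (k := k) u (Pi.single i 1) = ∑ j, (Pi.single j 1 : Fin d → k) ⊗ₜ[k] u j i := by
  rw [coactOf, ← Pi.basisFun_apply k, Module.Basis.constr_basis]

/-- The comodule attached to a multiplicative matrix. -/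
@[reducible] noncomputable def comodOf (u : Matrix (Fin d) (Fin d) A) (h : IsComatrix (k := k) u) :
    HopfRep.Comod k A (Fin d → k) where
  coact := coactOf u
  coassoc := by
    refine (Pi.basisFun k (Fin d)).ext fun i => ?_
    rw [Pi.basisFun_apply]
    simp only [LinearMap.comp_apply, coactOf_single, map_sum, LinearMap.rTensor_tmul,
      LinearMap.lTensor_tmul, LinearEquiv.coe_coe]
    simp only [TensorProduct.sum_tmul, map_sum, TensorProduct.assoc_tmul, h.comul,
      TensorProduct.tmul_sum]
    exact Finset.sum_comm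
  counit_comp := by
    refine (Pi.basisFun k (Fin d)).ext fun i => ?_
    rw [Pi.basisFun_apply]
    simp only [LinearMap.comp_apply, coactOf_single, map_sum, LinearMap.lTensor_tmul]
    rw [Finset.sum_eq_single i]
    · simp [h.counit]
    · intro b _ hb
      simp [h.counit, hb]
    · simp

/-- The matrix of a comodule structure on the coordinate space. -/
noncomputable def matOf (c : HopfRep.Comod k A (Fin d → k)) : Matrix (Fin d) (Fin d) A :=
  Matrix.of fun j i => TensorProduct.lid k A (LinearMap.rTensor A (LinearMap.proj j)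
    (c.coact (Pi.single i 1)))

theorem eq_sum_single (z : (Fin d → k) ⊗[k] A) :
    z = ∑ j, (Pi.single j 1 : Fin d → k) ⊗ₜ[k] TensorProduct.lid k A (LinearMap.rTensor A (LinearMap.proj j) z) := by
  induction z with
  | zero => simp
  | tmul v a =>
    simp only [LinearMap.rTensor_tmul, TensorProduct.lid_tmul, LinearMap.proj_apply,
      TensorProduct.tmul_smul, TensorProduct.smul_tmul', ← TensorProduct.sum_tmul]
    congr 1
    funext i
    simp [Finset.sum_apply, Pi.single_apply]
  | add x y hx hy =>
    simp only [map_add, TensorProduct.tmul_add, Finset.sum_add_distrib, ← hx, ← hy]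

theorem coact_single (c : HopfRep.Comod k A (Fin d → k)) (i : Fin d) :
    c.coact (Pi.single i 1) = ∑ j, (Pi.single j 1 : Fin d → k) ⊗ₜ[k] matOf c j i :=
  eq_sum_single _

theorem isComatrix_matOf (c : HopfRep.Comod k A (Fin d → k)) : IsComatrix (k := k) (matOf c) := by
  constructor
  · intro l i
    have h := LinearMap.congr_fun c.coassoc (Pi.single i 1)
    have h' := congrArg (fun z => TensorProduct.lid k (A ⊗[k] A)
      (LinearMap.rTensor (A ⊗[k] A) (LinearMap.proj (R := k) (φ := fun _ : Fin d => k) l) z)) h
    simp only [LinearMap.comp_apply, coact_single, map_sum, LinearMap.rTensor_tmul,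
      LinearMap.lTensor_tmul, LinearEquiv.coe_coe, TensorProduct.sum_tmul, TensorProduct.assoc_tmul,
      TensorProduct.lid_tmul, LinearMap.proj_apply, Pi.single_apply, ite_smul, one_smul, zero_smul,
      Finset.sum_ite_eq, Finset.mem_univ, if_true] at h'
    exact h'.symm
  · intro l i
    have h := LinearMap.congr_fun c.counit_comp (Pi.single i 1)
    have h' := congrArg (fun z => TensorProduct.lid k k
      (LinearMap.rTensor k (LinearMap.proj (R := k) (φ := fun _ : Fin d => k) l) z)) h
    simp only [LinearMap.comp_apply, coact_single, map_sum, LinearMap.rTensor_tmul,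
      LinearMap.lTensor_tmul, TensorProduct.lid_tmul, LinearMap.proj_apply, Pi.single_apply,
      ite_smul, one_smul, zero_smul, Finset.sum_ite_eq, Finset.mem_univ, if_true,
      LinearMap.flip_apply, TensorProduct.mk_apply] at h'
    exact h'

/-- The character of a comodule on the coordinate space, as in the statements. -/
noncomputable def chr (p : Σ d : ℕ, HopfRep.Comod k A (Fin d → k)) : A :=
  ∑ i : Fin p.1, TensorProduct.lid k A (LinearMap.rTensor A (LinearMap.proj i)
    (@HopfRep.Comod.coact k A _ _ _ _ (Fin p.1 → k) _ _ p.2 (Pi.single i 1)))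

theorem chr_eq_trace (p : Σ d : ℕ, HopfRep.Comod k A (Fin d → k)) : chr p = (matOf p.2).trace := rfl

theorem trace_mem_range_chr {m : Type*} [Fintype m] [DecidableEq m] {u : Matrix m m A}
    (h : IsComatrix (k := k) u) : u.trace ∈ Set.range (chr (k := k) (A := A)) := by
  let e := (Fintype.equivFin m).symm
  refine ⟨⟨_, comodOf _ (h.reindex e)⟩, ?_⟩
  show ∑ i, TensorProduct.lid k A (LinearMap.rTensor A (LinearMap.proj i)
    (coactOf (k := k) (u.submatrix e e) (Pi.single i 1))) = _
  rw [Matrix.trace, ← e.sum_comp]
  refine Finset.sum_congr rfl fun i _ => ?_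
  rw [coactOf_single, map_sum, map_sum, Finset.sum_eq_single i]
  · simp [Matrix.diag]
  · intro b _ hb
    simp [hb]
  · simp

end Comod

/-- A finitely generated bialgebra is generated by the entries of a multiplicative matrix. -/
theorem exists_generating_comatrix [Algebra.FiniteType k A] :
    ∃ (N : ℕ) (u : Matrix (Fin N) (Fin N) A), IsComatrix (k := k) u ∧
      Algebra.adjoin k (Set.range fun p : Fin N × Fin N => u p.1 p.2) = ⊤ := by
  classical
  obtain ⟨s, hs⟩ := Algebra.FiniteType.out (R := k) (A := A)
  let W₀ := Submodule.span (WithConv (A →ₗ[k] k)) (s : Set A)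
  let W := W₀.restrictScalars k
  haveI : Module.Finite k W := Comodule.finite_span_of_finite s.finite_toSet
  have hW : HopfRep.IsSubcomod (k := k) (A := A) W := Comodule.isSubcomod_restrictScalars W₀
  let b := Module.finBasis k W
  choose z hz using fun i => hW (b i : A) (b i).2
  let u : Matrix (Fin (Module.finrank k W)) (Fin (Module.finrank k W)) A := Matrix.of fun j i =>
    TensorProduct.lid k A (LinearMap.rTensor A (b.coord j) (z i))
  have hdec : ∀ (y : W ⊗[k] A), y = ∑ j, b j ⊗ₜ[k] TensorProduct.lid k A (LinearMap.rTensor A (b.coord j) y) := by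
    intro y
    induction y with
    | zero => simp
    | tmul v a =>
      simp only [LinearMap.rTensor_tmul, TensorProduct.lid_tmul, TensorProduct.tmul_smul,
        TensorProduct.smul_tmul', ← TensorProduct.sum_tmul, Module.Basis.coord_apply, b.sum_repr]
    | add x y hx hy => simp only [map_add, TensorProduct.tmul_add, Finset.sum_add_distrib, ← hx, ← hy]
  have hΔ : ∀ i, Coalgebra.comul (R := k) (b i : A) = ∑ j, (b j : A) ⊗ₜ[k] u j i := by
    intro i
    show HopfRep.Comod.coact (k := k) (A := A) (b i : A) = _
    rw [← hz i, hdec (z i), map_sum]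
    rfl
  choose φ hφ using fun j => LinearMap.exists_extend (p := W) (b.coord j)
  have hφb : ∀ j i, φ j (b i : A) = if i = j then 1 else 0 := by
    intro j i
    have := LinearMap.congr_fun (hφ j) (b i)
    simpa [Finsupp.single_apply, eq_comm] using this
  refine ⟨_, u, ⟨fun l i => ?_, fun l i => ?_⟩, ?_⟩
  · have h := Coalgebra.coassoc_apply (R := k) (b i : A)
    have h' := congrArg (fun y => TensorProduct.lid k (A ⊗[k] A) (LinearMap.rTensor (A ⊗[k] A) (φ l) y)) h
    simp only [hΔ, map_sum, LinearMap.rTensor_tmul, LinearMap.lTensor_tmul, TensorProduct.sum_tmul,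
      TensorProduct.assoc_tmul, TensorProduct.lid_tmul, hφb, ite_smul, one_smul, zero_smul,
      Finset.sum_ite_eq', Finset.mem_univ, if_true] at h'
    exact h'.symm
  · have h := congrArg (fun y => TensorProduct.lid k k (LinearMap.rTensor k (φ l) y))
      (Coalgebra.lTensor_counit_comul (R := k) (b i : A))
    simp only [hΔ, map_sum, LinearMap.rTensor_tmul, LinearMap.lTensor_tmul, TensorProduct.lid_tmul,
      hφb, ite_smul, one_smul, zero_smul, Finset.sum_ite_eq', Finset.mem_univ, if_true] at h
    rw [h]
    simp [eq_comm]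
  · rw [eq_top_iff, ← hs, Algebra.adjoin_le_iff]
    intro x hx
    have hxW : x ∈ W := Submodule.subset_span hx
    have hb : ∀ i, (b i : A) ∈ Algebra.adjoin k (Set.range fun p : Fin _ × Fin _ => u p.1 p.2) := by
      intro i
      have h := congrArg (TensorProduct.lid k A) (Coalgebra.rTensor_counit_comul (R := k) (b i : A))
      simp only [hΔ, map_sum, LinearMap.rTensor_tmul, TensorProduct.lid_tmul, one_smul] at h
      rw [← h]
      refine Subalgebra.sum_mem _ fun j _ => Subalgebra.smul_mem _ ?_ _
      exact Algebra.subset_adjoin (Set.mem_range.mpr ⟨(j, i), rfl⟩)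
    have : (⟨x, hxW⟩ : W) = ∑ i, b.repr ⟨x, hxW⟩ i • b i := (b.sum_repr _).symm
    have hx' : x = ∑ i, b.repr ⟨x, hxW⟩ i • (b i : A) := by
      conv_lhs => rw [show x = W.subtype ⟨x, hxW⟩ from rfl, this, map_sum]
      rfl
    rw [hx']
    exact Subalgebra.sum_mem _ fun i _ => Subalgebra.smul_mem _ (hb i) _

end Groth.Agent.CharFin
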