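import Groth.Agent.FinIntClosure.Basic
import Groth.Agent.FieldExtLib.Tower
import Mathlib

/-! Elements integral over a finitely generated subalgebra form a finite module. -/

set_option autoImplicit false
set_option linter.style.haveILetI false

namespace Groth.Agent.CharFin

universe u v

variable {k : Type u} [Field k] {B : Type v} [CommRing B] [Algebra k B]

theorem exists_fg_image (S₀ : Subalgebra k B) (hS₀ : S₀.FG) (F : Type v) [Field F] [Algebra k F]
    [Algebra B F] [IsScalarTower k B F] [Algebra.EssFiniteType k F] :
    ∃ N : Submodule S₀ F, N.FG ∧ ∀ x : B, IsIntegral S₀ x → algebraMap B F x ∈ N := by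
  classical
  let ψ : B →ₐ[k] F := IsScalarTower.toAlgHom k B F
  let T : Subalgebra k F := S₀.map ψ
  haveI : Algebra.FiniteType k T := (Subalgebra.fg_iff_finiteType _).mp (hS₀.map ψ)
  let K := FractionRing T
  letI : Algebra K F := FractionRing.liftAlgebra T F
  haveI : IsScalarTower T K F := FractionRing.isScalarTower_liftAlgebra T F
  haveI : IsScalarTower k K F := IsScalarTower.of_algebraMap_eq fun r => by
    rw [IsScalarTower.algebraMap_apply k T K, ← IsScalarTower.algebraMap_apply T K F]
    rfl
  haveI : Algebra.EssFiniteType K F := Algebra.EssFiniteType.of_comp k K F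
  let L := algebraicClosure K F
  haveI : Algebra.EssFiniteType K L := FieldExtLib.essFiniteType_intermediate K L F
  haveI : Algebra.IsAlgebraic K L := algebraicClosure.isAlgebraic K F
  haveI : FiniteDimensional K L := Algebra.finite_of_essFiniteType_of_isAlgebraic
  haveI := FinIntClosure.finite_integralClosure k T K L
  obtain ⟨E, hE⟩ := Module.Finite.fg_top (R := T) (M := integralClosure T L)
  let j : integralClosure T L → F := fun z => ((z : L) : F)
  refine ⟨Submodule.span S₀ (j '' (E : Set (integralClosure T L))),
    Submodule.fg_span (E.finite_toSet.image j), fun x hx => ?_⟩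
  let t : S₀ →+* T := (ψ.toRingHom.comp S₀.val.toRingHom).codRestrict T fun s => ⟨s, s.2, rfl⟩
  have hT : IsIntegral T (algebraMap B F x) := hx.map_of_comp_eq t ψ.toRingHom (by ext; rfl)
  have hL : algebraMap B F x ∈ L := (mem_algebraicClosure_iff).mpr (hT.tower_top (A := K)).isAlgebraic
  let xL : L := ⟨_, hL⟩
  haveI : IsScalarTower T L F := IsScalarTower.of_algebraMap_eq fun r => by
    rw [IsScalarTower.algebraMap_apply T K F, IsScalarTower.algebraMap_apply T K L,
      IsScalarTower.algebraMap_apply K L F]
  have hxL : IsIntegral T xL := (isIntegral_algebraMap_iff (algebraMap L F).injective).mp hT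
  have key : ∀ z : integralClosure T L, z ∈ Submodule.span T (E : Set (integralClosure T L)) →
      j z ∈ Submodule.span S₀ (j '' (E : Set (integralClosure T L))) := by
    intro z hz
    induction hz using Submodule.span_induction with
    | mem e he => exact Submodule.subset_span ⟨e, he, rfl⟩
    | zero => exact Submodule.zero_mem _
    | add a b _ _ ha hb => exact Submodule.add_mem _ ha hb
    | smul c a _ ha =>
      obtain ⟨_, s, hs, rfl⟩ := c
      have h : j ((⟨ψ s, s, hs, rfl⟩ : T) • a) = (⟨s, hs⟩ : S₀) • j a := by
        show algebraMap L F ((⟨ψ s, s, hs, rfl⟩ : T) • (a : L)) = _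
        rw [Algebra.smul_def, map_mul, ← IsScalarTower.algebraMap_apply T L F, Algebra.smul_def]
        rfl
      exact h ▸ Submodule.smul_mem _ _ ha
  exact key ⟨xL, hxL⟩ (hE ▸ Submodule.mem_top)

/-- In a reduced algebra of finite type over a field, the elements integral over a finitely
generated subalgebra lie in a finite submodule over it. -/
theorem exists_fg_of_isIntegral [Algebra.FiniteType k B] [IsReduced B] (S₀ : Subalgebra k B)
    (hS₀ : S₀.FG) : Module.Finite S₀ (integralClosure S₀ B) := by
  classical
  haveI : IsNoetherianRing B := Algebra.FiniteType.isNoetherianRing k B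
  haveI : Algebra.FiniteType k S₀ := (Subalgebra.fg_iff_finiteType _).mp hS₀
  haveI : IsNoetherianRing S₀ := Algebra.FiniteType.isNoetherianRing k S₀
  let ι := {P : PrimeSpectrum B // P.asIdeal ∈ minimalPrimes B}
  haveI := (minimalPrimes.finite_of_isNoetherianRing B).to_subtype
  haveI : Finite ι := Finite.of_injective
    (fun P : ι => (⟨P.1.asIdeal, P.2⟩ : ↥(minimalPrimes B)))
    (fun P Q h => Subtype.ext (PrimeSpectrum.ext (congrArg Subtype.val h)))
  have h : ∀ P : ι, ∃ N : Submodule S₀ P.1.asIdeal.ResidueField, N.FG ∧
      ∀ x : B, IsIntegral S₀ x → algebraMap B _ x ∈ N := by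
    intro P
    haveI : Algebra.EssFiniteType k P.1.asIdeal.ResidueField :=
      Algebra.EssFiniteType.comp k B _
    exact exists_fg_image S₀ hS₀ _
  choose N hN hNx using h
  haveI : ∀ P, Module.Finite S₀ (N P) := fun P => Module.Finite.of_fg (hN P)
  let f : integralClosure S₀ B →ₗ[S₀] (∀ P : ι, N P) :=
    { toFun := fun x P => ⟨algebraMap B _ (x : B), hNx P _ x.2⟩
      map_add' := fun x y => funext fun P => Subtype.ext (map_add (algebraMap B _) (x : B) y)
      map_smul' := fun r x => funext fun P => Subtype.ext (by
        show algebraMap B _ ((r : B) * x) = _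
        rw [map_mul, Pi.smul_apply, SetLike.val_smul, RingHom.id_apply, Algebra.smul_def,
          IsScalarTower.algebraMap_apply S₀ B]
        rfl) }
  refine Module.Finite.of_injective f fun x y h => Subtype.ext ?_
  rw [← sub_eq_zero]
  refine (isNilpotent_iff_eq_zero).mp (nilpotent_iff_mem_prime.mpr fun J hJ => ?_)
  obtain ⟨P, hPmin, hPJ⟩ := Ideal.exists_minimalPrimes_le (I := ⊥) (J := J) bot_le
  refine hPJ ?_
  let P' : ι := ⟨⟨P, Ideal.minimalPrimes_isPrime hPmin⟩, hPmin⟩
  haveI : P'.1.asIdeal.IsPrime := P'.1.isPrime
  have := congrArg Subtype.val (congrFun h P')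
  change algebraMap B P'.1.asIdeal.ResidueField (x : B) = algebraMap B _ (y : B) at this
  show ((x : B) - y) ∈ P'.1.asIdeal
  rw [← Ideal.algebraMap_residueField_eq_zero, map_sub, sub_eq_zero]
  exact this

end Groth.Agent.CharFin
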