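import Groth.Agent.CharFin.Comatrix

/-! Traces of multiplicative matrices are integral over the invariants of a generating one. -/

set_option autoImplicit false
set_option linter.style.haveILetI false

open TensorProduct

namespace Groth.Agent.CharFin

/-- Traces of integral matrices over reduced Noetherian rings are integral. -/
theorem isIntegral_trace_of_isReduced {S B : Type*} [CommRing S] [CommRing B] [Algebra S B]
    [IsNoetherianRing B] [IsReduced B] {n : Type*} [Fintype n] [DecidableEq n] {M : Matrix n n B}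
    (hM : IsIntegral S M) : IsIntegral S M.trace := by
  classical
  have hP : ∀ P : Ideal B, P.IsPrime → ∃ q : Polynomial S, q.Monic ∧ Polynomial.aeval M.trace q ∈ P := by
    intro P hP
    let K := AlgebraicClosure (FractionRing (B ⧸ P))
    let g : B →ₐ[S] K := IsScalarTower.toAlgHom S B K
    obtain ⟨p, hp, hp0⟩ := hM
    have hpM : Polynomial.aeval (M.map g) (p.map (algebraMap S K)) = 0 := by
      rw [Polynomial.aeval_map_algebraMap, ← AlgHom.mapMatrix_apply, Polynomial.aeval_algHom_apply,
        Polynomial.aeval_def, hp0, map_zero]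
    have hroots : ∀ r ∈ (M.map g).charpoly.roots, IsIntegral S r := by
      intro r hr
      haveI : Nonempty n := by
        by_contra hn
        rw [not_nonempty_iff] at hn
        rw [Matrix.charpoly, Matrix.det_isEmpty, Polynomial.roots_one] at hr
        simp at hr
      rw [Polynomial.mem_roots (Matrix.charpoly_monic _).ne_zero,
        ← Matrix.mem_spectrum_iff_isRoot_charpoly] at hr
      have h : (p.map (algebraMap S K)).eval r ∈
          spectrum K (Polynomial.aeval (M.map g) (p.map (algebraMap S K))) :=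
        spectrum.subset_polynomial_aeval (M.map g) (p.map (algebraMap S K)) ⟨r, hr, rfl⟩
      rw [hpM, spectrum.zero_eq, Set.mem_singleton_iff, Polynomial.eval_map] at h
      exact ⟨p, hp, h⟩
    have htr : IsIntegral S (g M.trace) := by
      have h : g M.trace = (M.map g).trace := map_sum g _ _
      rw [h, Matrix.trace_eq_sum_roots_charpoly]
      exact IsIntegral.multiset_sum hroots
    obtain ⟨q, hq, hq0⟩ := htr
    refine ⟨q, hq, ?_⟩
    rw [← Polynomial.aeval_def, Polynomial.aeval_algHom_apply] at hq0
    rw [← Ideal.Quotient.eq_zero_iff_mem]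
    refine IsFractionRing.injective (B ⧸ P) (FractionRing (B ⧸ P)) ?_
    rw [map_zero]
    refine (algebraMap (FractionRing (B ⧸ P)) K).injective ?_
    rw [map_zero, ← hq0]
    rfl
  choose q hq hqP using hP
  have hfin := minimalPrimes.finite_of_isNoetherianRing B
  let q' : Ideal B → Polynomial S := fun P => if h : P.IsPrime then q P h else 1
  refine ⟨∏ P ∈ hfin.toFinset, q' P, Polynomial.monic_prod_of_monic _ _ fun P hPm => ?_, ?_⟩
  · simp only [q']
    split
    · exact hq _ _
    · exact Polynomial.monic_one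
  · rw [← Polynomial.aeval_def]
    have : IsNilpotent (Polynomial.aeval M.trace (∏ P ∈ hfin.toFinset, q' P)) := by
      rw [nilpotent_iff_mem_prime]
      intro J hJ
      obtain ⟨P, hPmin, hPJ⟩ := Ideal.exists_minimalPrimes_le (I := ⊥) (J := J) bot_le
      refine hPJ ?_
      rw [map_prod]
      refine Ideal.mem_of_dvd _ (Finset.dvd_prod_of_mem _ (hfin.mem_toFinset.mpr hPmin)) ?_
      simp only [q', dif_pos (Ideal.minimalPrimes_isPrime hPmin)]
      exact hqP _ _
    exact this.eq_zero

variable {k : Type*} [Field k] {B : Type*} [CommRing B] [Bialgebra k B]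

/-- The power endomorphisms of the underlying monoid. -/
noncomputable def powHom : ℕ → (B →ₐ[k] B)
  | 0 => (Algebra.ofId k B).comp (Bialgebra.counitAlgHom k B)
  | m + 1 => (Algebra.TensorProduct.lift (powHom m) (AlgHom.id k B) fun _ _ => mul_comm _ _).comp
      (Bialgebra.comulAlgHom k B)

theorem map_powHom {n : Type*} [Fintype n] [DecidableEq n] {u : Matrix n n B}
    (h : IsComatrix (k := k) u) (m : ℕ) : u.map (powHom (k := k) m) = u ^ m := by
  induction m with
  | zero =>
    ext i j
    simp [powHom, h.counit, Matrix.one_apply, Algebra.ofId_apply]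
  | succ m ih =>
    ext i j
    rw [pow_succ, Matrix.mul_apply, Matrix.map_apply, powHom, AlgHom.comp_apply,
      Bialgebra.comulAlgHom_apply, h.comul, map_sum]
    refine Finset.sum_congr rfl fun l _ => ?_
    rw [Algebra.TensorProduct.lift_tmul, AlgHom.id_apply, ← ih, Matrix.map_apply]

variable (S : Subalgebra k B)

theorem exists_fg_aeval_mem {σ : Type*} (N₁ : Submodule S B) (hN₁ : N₁.FG) (h1 : (1 : B) ∈ N₁)
    (P : MvPolynomial σ k) : ∃ N : Submodule S B, N.FG ∧
      ∀ f : σ → B, (∀ i, f i ∈ N₁) → MvPolynomial.aeval f P ∈ N := by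
  induction P using MvPolynomial.induction_on with
  | C r =>
    refine ⟨N₁, hN₁, fun f _ => ?_⟩
    have hr : MvPolynomial.aeval f (MvPolynomial.C r : MvPolynomial σ k) =
        (⟨algebraMap k B r, S.algebraMap_mem r⟩ : S) • (1 : B) := by
      rw [MvPolynomial.aeval_C, Subalgebra.smul_def, smul_eq_mul, mul_one]
    rw [hr]
    exact N₁.smul_mem _ h1
  | add p q hp hq =>
    obtain ⟨Np, hp1, hp2⟩ := hp
    obtain ⟨Nq, hq1, hq2⟩ := hq
    refine ⟨Np ⊔ Nq, hp1.sup hq1, fun f hf => ?_⟩
    rw [map_add]
    exact Submodule.add_mem_sup (hp2 f hf) (hq2 f hf)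
  | mul_X p i hp =>
    obtain ⟨N, h2, h3⟩ := hp
    refine ⟨N * N₁, h2.mul hN₁, fun f hf => ?_⟩
    rw [map_mul, MvPolynomial.aeval_X]
    exact Submodule.mul_mem_mul (h3 f hf) (hf i)

/-- The trace of any multiplicative matrix is integral over a subalgebra over which a generating
multiplicative matrix is integral. -/
theorem isIntegral_trace_comatrix [IsNoetherianRing B] [IsReduced B] [IsNoetherianRing S]
    {n : Type*} [Fintype n] [DecidableEq n] {b : Matrix n n B} (hb : IsComatrix (k := k) b)
    (hgen : Algebra.adjoin k (Set.range fun p : n × n => b p.1 p.2) = ⊤) (hbS : IsIntegral S b)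
    {m : Type*} [Fintype m] [DecidableEq m] {c : Matrix m m B} (hc : IsComatrix (k := k) c) :
    IsIntegral S c.trace := by
  classical
  refine isIntegral_trace_of_isReduced ?_
  let ev : n → n → Matrix n n B →ₗ[S] B := fun i j => Matrix.entryLinearMap S B i j
  let Sb := Subalgebra.toSubmodule (Algebra.adjoin S {b})
  let N₁ : Submodule S B := (⨆ p : n × n, Sb.map (ev p.1 p.2)) ⊔ Submodule.span S {1}
  have hN₁ : N₁.FG := (Submodule.fg_iSup _ fun p => (hbS.fg_adjoin_singleton).map _).sup
    (Submodule.fg_span_singleton _)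
  have hpow : ∀ (e : ℕ) (p : n × n), (b ^ e) p.1 p.2 ∈ N₁ := fun e p =>
    Submodule.mem_sup_left (Submodule.mem_iSup_of_mem p
      ⟨b ^ e, Subalgebra.pow_mem (Algebra.adjoin S {b}) (Algebra.self_mem_adjoin_singleton S b) e, rfl⟩)
  have h1 : (1 : B) ∈ N₁ := Submodule.mem_sup_right (Submodule.mem_span_singleton_self 1)
  have hP : ∀ q : m × m, ∃ P : MvPolynomial (n × n) k,
      MvPolynomial.aeval (fun p : n × n => b p.1 p.2) P = c q.1 q.2 := by
    intro q
    have h : c q.1 q.2 ∈ Algebra.adjoin k (Set.range fun p : n × n => b p.1 p.2) := by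
      rw [hgen]; trivial
    rwa [Algebra.adjoin_range_eq_range_aeval] at h
  choose P hP using hP
  choose N hN hNmem using fun q => exists_fg_aeval_mem S N₁ hN₁ h1 (P q)
  let N₂ : Submodule S B := ⨆ q, N q
  have hc' : ∀ (e : ℕ) i j, (c ^ e) i j ∈ N₂ := by
    intro e i j
    refine Submodule.mem_iSup_of_mem (i, j) ?_
    rw [← map_powHom hc e, Matrix.map_apply, ← hP (i, j), MvPolynomial.comp_aeval_apply]
    refine hNmem _ _ fun p => ?_
    have : powHom (k := k) e (b p.1 p.2) = (b ^ e) p.1 p.2 := by rw [← map_powHom hb e]; rfl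
    rw [this]
    exact hpow e p
  have hN₂ : N₂.FG := Submodule.fg_iSup _ hN
  let Mat : Submodule S (Matrix m m B) :=
    { carrier := {X | ∀ i j, X i j ∈ N₂}
      add_mem' := fun hx hy i j => N₂.add_mem (hx i j) (hy i j)
      zero_mem' := fun _ _ => N₂.zero_mem
      smul_mem' := fun r X hX i j => N₂.smul_mem r (hX i j) }
  haveI : Module.Finite S N₂ := Module.Finite.of_fg hN₂
  haveI : Module.Finite S Mat := by
    let ι : Mat →ₗ[S] (m → m → N₂) :=
      { toFun := fun X i j => ⟨X.1 i j, X.2 i j⟩
        map_add' := fun _ _ => rfl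
        map_smul' := fun _ _ => rfl }
    refine Module.Finite.of_injective ι fun X Y h => Subtype.ext ?_
    ext i j
    exact congrArg Subtype.val (congrFun (congrFun h i) j)
  refine IsIntegral.of_mem_of_fg (Algebra.adjoin S {c}) ?_ c (Algebra.subset_adjoin rfl)
  refine Submodule.FG.of_le_of_isNoetherian (T := Mat) ?_
  intro X hX
  rw [Subalgebra.mem_toSubmodule, Algebra.adjoin_singleton_eq_range_aeval] at hX
  obtain ⟨p, rfl⟩ := hX
  show Polynomial.aeval c p ∈ Mat
  rw [Polynomial.aeval_eq_sum_range]
  exact Submodule.sum_mem _ fun e _ => Submodule.smul_mem _ _ (hc' e)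

end Groth.Agent.CharFin
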